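import Mathlib.Algebra.Module.ZMod
import Mathlib.Algebra.Field.ZMod
import Mathlib.FieldTheory.Finiteness
import Mathlib.LinearAlgebra.Dimension.Free

/-!
# The order of a finite abelian group killed by a prime
-/

set_option autoImplicit false

namespace Groth.Agent.Lefpen.H879.CardPow

theorem exists_card_eq_pow (ℓ : ℕ) [Fact ℓ.Prime] {A : Type*} [AddCommGroup A] [Finite A]
    (h : ∀ x : A, ℓ • x = 0) : ∃ s, Nat.card A = ℓ ^ s := by
  let _ : Module (ZMod ℓ) A := AddCommGroup.zmodModule h
  exact ⟨Module.finrank (ZMod ℓ) A, by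
    rw [Module.natCard_eq_pow_finrank (K := ZMod ℓ) (V := A), Nat.card_zmod]⟩

end Groth.Agent.Lefpen.H879.CardPow
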