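import Groth.Agent.Lefpen.H714.EulerEt
import Groth.Agent.Lefpen.H716.CIGeom
import Groth.Agent.Sga4B.ConstLC
import Groth.Agent.Sga4A.DiscGeom
import Groth.Agent.EtpbcA.CdTwoDim
import Groth.Agent.Etrest.ConstBasic

/-!
# The mod `ℓ` Euler characteristic of a finite étale scheme over an algebraically closed field

* `card_H_zero_const`: `#H^0(Y, ℤ/n) = n ^ #Y` for a finite discrete scheme `Y`.
* `ec_points`: `ec ℓ Y = #Y * log ℓ` for `Y` smooth of relative dimension `0` and quasi-compact over a separably closed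
  field.
-/

set_option autoImplicit false
universe u

open CategoryTheory AlgebraicGeometry Limits TopologicalSpace Opposite

namespace Groth.Agent.Lefpen.H879.Points

open Groth.Agent

/-- Locally constant functions on a discrete space. -/
def lcEquiv (X A : Type*) [TopologicalSpace X] [DiscreteTopology X] : LocallyConstant X A ≃ (X → A) where
  toFun f := f
  invFun f := ⟨f, IsLocallyConstant.of_discrete f⟩
  left_inv _ := rfl
  right_inv _ := rfl

theorem card_H_zero_const (Y : Scheme.{u}) [Finite Y] [DiscreteTopology Y] (n : ℕ) :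
    Nat.card (EtCoh.H Y (EtCoh.const Y (ZMod n)) 0) = n ^ Nat.card Y := by
  have e1 : EtCoh.H Y (EtCoh.const Y (ZMod n)) 0 ≃+ EtCoh.sect (EtCoh.const Y (ZMod n)) (EtCoh.top Y) :=
    Sheaf.H.equiv₀ _ (EtCore.topIsTerminal Y)
  have e2 : EtCoh.sect (EtCoh.const Y (ZMod n)) (EtCoh.top Y) ≃+
      LocallyConstant (EtCoh.top Y).left (ULift.{u + 1} (ZMod n)) :=
    (((sheafToPresheaf _ _).mapIso (Groth.Agent.Sga4B.ConstLC.constIso Y (ZMod n))).app
      (op (EtCoh.top Y))).addCommGroupIsoToAddEquiv
  have e3 : LocallyConstant Y (ULift.{u + 1} (ZMod n)) ≃ (Y → ULift.{u + 1} (ZMod n)) := lcEquiv _ _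
  rw [Nat.card_congr e1.toEquiv, Nat.card_congr e2.toEquiv]
  refine (Nat.card_congr e3).trans ?_
  rw [Nat.card_fun, Nat.card_congr (Equiv.ulift (α := ZMod n)), Nat.card_zmod]

variable {k : Type u} [Field k] {Y : Scheme.{u}} (f : Y ⟶ Spec (CommRingCat.of k))

include f in
theorem discreteTopology_of_smooth_zero [SmoothOfRelativeDimension 0 f] : DiscreteTopology Y := by
  have : Etale f := (Etale.iff_smoothOfRelativeDimension_zero f).2 inferInstance
  have : DiscreteTopology (Spec (CommRingCat.of k)) := inferInstanceAs (DiscreteTopology (PrimeSpectrum k))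
  exact Sga4A.DiscGeom.discreteTopology_of_etale f

include f in
theorem finite_of_smooth_zero [SmoothOfRelativeDimension 0 f] [QuasiCompact f] : Finite Y := by
  have := discreteTopology_of_smooth_zero f
  have : CompactSpace Y := QuasiCompact.compactSpace_of_compactSpace f
  exact finite_of_compact_of_discrete

include f in
theorem ec_points [IsSepClosed k] [SmoothOfRelativeDimension 0 f] [QuasiCompact f] (ℓ : ℕ) (hℓ : 0 < ℓ) :
    Lefpen.H714.EulerEt.ec ℓ Y = Nat.card Y * Real.log ℓ := by
  have := discreteTopology_of_smooth_zero f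
  have := finite_of_smooth_zero f
  have hd : topologicalKrullDim Y ≤ (0 : ℕ) := Lefpen.H716.CIGeom.topologicalKrullDim_le_of_smooth 0 f
  have hs : Smooth f := SmoothOfRelativeDimension.smooth 0 f
  have hv : ∀ q, 0 < q → Subsingleton (EtCoh.H Y (EtCoh.const Y (ZMod ℓ)) q) := fun q hq =>
    Groth.Agent.EtpbcA.CdTwoDim.cohDimLE_two_mul Y f 0 hd (EtCoh.const Y (ZMod ℓ))
      (Etrest.ConstBasic.isTorsion_of_killedBy hℓ (Etrest.ConstBasic.killedBy_const Y (ZMod ℓ) ℓ (by simp))) q
      (by omega)
  rw [Lefpen.H714.EulerEt.ec, Lefpen.H714.EulerEt.e, Lefpen.H714.EulerAlg.chi_eq_sum 0 hv]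
  simp only [zero_add, Finset.range_one, Finset.sum_singleton, pow_zero, one_mul]
  rw [Lefpen.H714.EulerAlg.lg, card_H_zero_const, Nat.cast_pow, Real.log_pow]

end Groth.Agent.Lefpen.H879.Points
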