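import Groth.Agent.Lefpen.H879.Lat
import Groth.Agent.Lefpen.H879.Points
import Groth.Agent.Lefpen.H590.Num
import Groth.Agent.Lefpen.H879.CardPow
import Groth.Agent.Ega3B.ProjProper
import Groth.Agent.Sga5.HcConst
import Groth.Agent.S0185

/-!
# The numerical system of closed subschemes of projective space

* `ez ℓ Y`: the integer `n` with `ec ℓ Y = n * log ℓ`; `ec_eq`: it exists for projective schemes over a separably closed
  field.
* `DP`, `Const`: the double point formula and the constancy statement (hypotheses).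
* `sys`: the system `H590.Num.Sys` of the closed subschemes of `P^r`.
-/

set_option autoImplicit false
universe u

open CategoryTheory AlgebraicGeometry Limits TopologicalSpace Opposite

namespace Groth.Agent.Lefpen.H879.System

open LefPen Groth.Agent.Lefpen.H879.Lat
open Groth.Agent.Lefpen.H714.EulerEt Groth.Agent.Lefpen.H714.EulerAlg Groth.Agent

/-- The integer `n` with `x = n * log ℓ` (if there is one). -/
noncomputable def intPart (ℓ : ℕ) (x : ℝ) : ℤ := by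
  classical
  exact if h : ∃ n : ℤ, x = n * Real.log ℓ then h.choose else 0

theorem intPart_spec (ℓ : ℕ) {x : ℝ} (h : ∃ n : ℤ, x = n * Real.log ℓ) : x = intPart ℓ x * Real.log ℓ := by
  unfold intPart
  rw [dif_pos h]
  exact h.choose_spec

theorem log_ne_zero {ℓ : ℕ} (hℓ : 1 < ℓ) : Real.log ℓ ≠ 0 := by
  have : (1 : ℝ) < ℓ := by exact_mod_cast hℓ
  exact (Real.log_pos this).ne'

theorem intPart_eq {ℓ : ℕ} (hℓ : 1 < ℓ) {x : ℝ} (n : ℤ) (h : x = n * Real.log ℓ) : intPart ℓ x = n := by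
  have h1 := intPart_spec ℓ ⟨n, h⟩
  rw [h] at h1
  have h2 := mul_right_cancel₀ (log_ne_zero hℓ) h1
  rw [← h] at h2
  exact_mod_cast h2.symm

/-- The integer Euler characteristic. -/
noncomputable def ez (ℓ : ℕ) (Y : Scheme.{u}) : ℤ := intPart ℓ (ec ℓ Y)

section integrality

variable {k : Type u} [Field k] (ℓ : ℕ) [Fact ℓ.Prime]

theorem lg_eq {A : Type*} [AddCommGroup A] [Finite A] (h : ∀ x : A, ℓ • x = 0) :
    ∃ n : ℤ, lg A = n * Real.log ℓ := by
  obtain ⟨s, hs⟩ := CardPow.exists_card_eq_pow ℓ h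
  refine ⟨(s : ℕ), ?_⟩
  rw [lg, hs, Nat.cast_pow, Real.log_pow]
  simp

theorem H_torsion (Y : Scheme.{u}) (q : ℕ) (x : EtCoh.H Y (EtCoh.const Y (ZMod ℓ)) q) : ℓ • x = 0 :=
  Sga5.HcConst.H_nsmul_eq_zero ℓ _ (Etrest.ConstBasic.killedBy_const Y (ZMod ℓ) ℓ (by simp)) q x

/-- Integrality of the Euler characteristic. -/
theorem exists_int (Y : Scheme.{u}) (b : ℕ) (hfin : ∀ q, Finite (EtCoh.H Y (EtCoh.const Y (ZMod ℓ)) q))
    (hb : ∀ q, b < q → Subsingleton (EtCoh.H Y (EtCoh.const Y (ZMod ℓ)) q)) :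
    ∃ n : ℤ, ec ℓ Y = n * Real.log ℓ := by
  rw [ec, e, chi_eq_sum b hb]
  choose n hn using fun q => lg_eq ℓ (A := EtCoh.H Y (EtCoh.const Y (ZMod ℓ)) q) (H_torsion ℓ Y q)
  refine ⟨∑ q ∈ Finset.range (b + 1), (-1) ^ q * n q, ?_⟩
  push_cast
  rw [Finset.sum_mul]
  refine Finset.sum_congr rfl fun q _ => ?_
  rw [hn q]
  ring

variable [IsSepClosed k] {Y : Scheme.{u}} (g : Y ⟶ Spec (CommRingCat.of k))

include g in
theorem finite_H [IsProper g] (n : ℕ) [NeZero n] (q : ℕ) : Finite (EtCoh.H Y (EtCoh.const Y (ZMod n)) q) :=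
  S0185.result Y g n (Nat.pos_of_ne_zero (NeZero.ne n)) _ (Etrest.ConstBasic.isConstructible_const Y (ZMod n))
    (Etrest.ConstBasic.killedBy_const Y (ZMod n) n (by simp)) q

include g in
theorem subsingleton_H (m : ℕ) [SmoothOfRelativeDimension m g] [QuasiCompact g] (n : ℕ) (hn : 0 < n) (q : ℕ)
    (hq : 2 * m < q) : Subsingleton (EtCoh.H Y (EtCoh.const Y (ZMod n)) q) := by
  have hs : Smooth g := SmoothOfRelativeDimension.smooth m g
  exact Groth.Agent.EtpbcA.CdTwoDim.cohDimLE_two_mul Y g m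
    (Lefpen.H716.CIGeom.topologicalKrullDim_le_of_smooth m g) (EtCoh.const Y (ZMod n))
      (Etrest.ConstBasic.isTorsion_of_killedBy hn (Etrest.ConstBasic.killedBy_const Y (ZMod n) n (by simp))) q hq

end integrality

variable {k : Type u} [Field k] {r : ℕ}

theorem isProper_str (J : (CohB1.ProjSpace r k).IdealSheafData) :
    IsProper (J.subschemeι ≫ CohB1.ProjSpace.toSpec r k) := by
  have hP : IsProper (CohB1.ProjSpace.toSpec r k) := Groth.Agent.Ega3B.ProjProper.isProper_toSpec _ _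
  infer_instance

theorem smooth_of_isEmpty {Y : Scheme.{u}} [IsEmpty Y] (g : Y ⟶ Spec (CommRingCat.of k)) (m : ℕ) :
    SmoothOfRelativeDimension m g := ⟨fun x => (IsEmpty.false x).elim⟩

theorem ec_eq_zero_of_isEmpty [IsSepClosed k] {Y : Scheme.{u}} [IsEmpty Y] (g : Y ⟶ Spec (CommRingCat.of k))
    (ℓ : ℕ) (hℓ : 0 < ℓ) : ec ℓ Y = 0 := by
  have := smooth_of_isEmpty g 0
  rw [Points.ec_points g ℓ hℓ]
  simp

theorem ec_eq [IsSepClosed k] (ℓ : ℕ) [Fact ℓ.Prime] (m : ℕ) (J : (CohB1.ProjSpace r k).IdealSheafData)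
    (hJ : Tr m J) : ec ℓ J.subscheme = ez ℓ J.subscheme * Real.log ℓ := by
  apply intPart_spec
  have := isProper_str J
  have : NeZero ℓ := ⟨(Fact.out : ℓ.Prime).ne_zero⟩
  cases m with
  | zero =>
    have hE : IsEmpty J.subscheme := hJ
    exact ⟨0, by rw [ec_eq_zero_of_isEmpty (J.subschemeι ≫ CohB1.ProjSpace.toSpec r k) ℓ
      (Fact.out : ℓ.Prime).pos]; simp⟩
  | succ m =>
    have hE : SmoothOfRelativeDimension m (J.subschemeι ≫ CohB1.ProjSpace.toSpec r k) := hJ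
    exact exists_int ℓ J.subscheme (2 * m)
      (fun q => finite_H (J.subschemeι ≫ CohB1.ProjSpace.toSpec r k) ℓ q)
      (fun q hq => subsingleton_H (J.subschemeι ≫ CohB1.ProjSpace.toSpec r k) m ℓ (Fact.out : ℓ.Prime).pos q hq)

/-- The double point formula. -/
def DP (k : Type u) [Field k] (r ℓ : ℕ) : Prop :=
  ∀ (m a : ℕ) (J : (CohB1.ProjSpace r k).IdealSheafData) (F : Form r k a) (L : Form r k 1)
    (G : Form r k (a + 1)), 1 ≤ a → Tr (m + 1) J → Tr m (J ⊔ hypIdeal F) → Tr m (J ⊔ hypIdeal L) →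
    Tr m (J ⊔ hypIdeal G) → Tr (m - 1) (J ⊔ hypIdeal F ⊔ hypIdeal L) → Tr (m - 1) (J ⊔ hypIdeal F ⊔ hypIdeal G) →
    Tr (m - 1) (J ⊔ hypIdeal L ⊔ hypIdeal G) → Tr (m - 1 - 1) (J ⊔ hypIdeal F ⊔ hypIdeal L ⊔ hypIdeal G) →
    ec ℓ (J ⊔ hypIdeal G).subscheme = ec ℓ (J ⊔ hypIdeal F).subscheme + ec ℓ (J ⊔ hypIdeal L).subscheme -
      2 * ec ℓ (J ⊔ hypIdeal F ⊔ hypIdeal L).subscheme + ec ℓ (J ⊔ hypIdeal F ⊔ hypIdeal L ⊔ hypIdeal G).subscheme

/-- Constancy of the cohomology of the transversal sections of one degree. -/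
def Const (k : Type u) [Field k] (r ℓ : ℕ) : Prop :=
  ∀ (m a : ℕ) (J : (CohB1.ProjSpace r k).IdealSheafData) (H H' : Form r k a), Tr (m + 1) J →
    Tr m (J ⊔ hypIdeal H) → Tr m (J ⊔ hypIdeal H') → ec ℓ (J ⊔ hypIdeal H).subscheme = ec ℓ (J ⊔ hypIdeal H').subscheme

/-- The numerical system of the closed subschemes of `P^r`. -/
noncomputable def sys [IsAlgClosed k] (ℓ : ℕ) [Fact ℓ.Prime] (hDP : DP k r ℓ) (hC : Const k r ℓ) :
    Lefpen.H590.Num.Sys (CohB1.ProjSpace r k).IdealSheafData (fun a => Form r k a) where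
  D := Tr
  sec J H := J ⊔ hypIdeal H
  e J := ez ℓ J.subscheme
  R := Eq
  R_refl _ := rfl
  R_trans := Eq.trans
  R_D := by rintro _ _ _ rfl h; exact h
  R_e := by rintro _ _ rfl; rfl
  R_sec := by rintro _ _ _ _ rfl; rfl
  R_comm J _ _ H H' := by rw [sup_assoc, sup_assoc, sup_comm (hypIdeal H)]
  e_zero := by
    intro J hJ
    have hE : IsEmpty J.subscheme := hJ
    exact intPart_eq (Fact.out : ℓ.Prime).one_lt 0
      (by rw [ec_eq_zero_of_isEmpty (J.subschemeι ≫ CohB1.ProjSpace.toSpec r k) ℓ (Fact.out : ℓ.Prime).pos]; simp)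
  D_zero _ h := Tr_zero_sup h
  bertini := bertini
  const := by
    intro m a J H H' h h1 h2
    cases m with
    | zero =>
      have hE : IsEmpty (J ⊔ hypIdeal H).subscheme := h1
      have hE' : IsEmpty (J ⊔ hypIdeal H').subscheme := h2
      unfold ez
      rw [ec_eq_zero_of_isEmpty ((J ⊔ hypIdeal H).subschemeι ≫ CohB1.ProjSpace.toSpec r k) ℓ
        (Fact.out : ℓ.Prime).pos,
        ec_eq_zero_of_isEmpty ((J ⊔ hypIdeal H').subschemeι ≫ CohB1.ProjSpace.toSpec r k) ℓ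
        (Fact.out : ℓ.Prime).pos]
    | succ m =>
      unfold ez
      rw [hC m a J H H' h h1 h2]
  recur := by
    intro m a J F L G ha h h1 h2 h3 h4 h5 h6 h7
    have hl := log_ne_zero (Fact.out : ℓ.Prime).one_lt
    have key : ∀ (m' : ℕ) (J' : (CohB1.ProjSpace r k).IdealSheafData), Tr m' J' →
        ec ℓ J'.subscheme = ez ℓ J'.subscheme * Real.log ℓ := fun m' J' h' => ec_eq ℓ m' J' h'
    have main : ec ℓ (J ⊔ hypIdeal G).subscheme =
        ec ℓ (J ⊔ hypIdeal F).subscheme + ec ℓ (J ⊔ hypIdeal L).subscheme -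
        2 * ec ℓ (J ⊔ hypIdeal F ⊔ hypIdeal L).subscheme +
        ec ℓ (J ⊔ hypIdeal F ⊔ hypIdeal L ⊔ hypIdeal G).subscheme := by
      cases m with
      | zero =>
        have z : ∀ J' : (CohB1.ProjSpace r k).IdealSheafData, Tr 0 J' → ec ℓ J'.subscheme = 0 := by
          intro J' h'
          have : IsEmpty J'.subscheme := h'
          exact ec_eq_zero_of_isEmpty (J'.subschemeι ≫ CohB1.ProjSpace.toSpec r k) ℓ (Fact.out : ℓ.Prime).pos
        rw [z _ h1, z _ h2, z _ h3, z _ h4, z _ h7]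
        ring
      | succ m => exact hDP m a J F L G ha h h1 h2 h3 h4 h5 h6 h7
    rw [key _ _ h1, key _ _ h2, key _ _ h3, key _ _ h4, key _ _ h7] at main
    have h8 : ((ez ℓ (J ⊔ hypIdeal G).subscheme : ℤ) : ℝ) =
        ((ez ℓ (J ⊔ hypIdeal F).subscheme + ez ℓ (J ⊔ hypIdeal L).subscheme -
          2 * ez ℓ (J ⊔ hypIdeal F ⊔ hypIdeal L).subscheme +
          ez ℓ (J ⊔ hypIdeal F ⊔ hypIdeal L ⊔ hypIdeal G).subscheme : ℤ) : ℝ) := by
      apply mul_right_cancel₀ hl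
      rw [main]
      push_cast
      ring
    exact_mod_cast h8

end Groth.Agent.Lefpen.H879.System
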