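import Groth.Agent.Lefpen.H879.Ker
import Groth.Agent.Lefpen.H708.Bertini
import Groth.Agent.Lefpen.H702.PolyFun

/-!
# Closed subschemes of projective space as ideal sheaves: sections, transversality, Bertini

`J : (ProjSpace r k).IdealSheafData` stands for the closed subscheme `J.subscheme`; the section by a form `H` is
`J ⊔ hypIdeal H`.

* `Tr (m + 1) J` = smooth of relative dimension `m`, `Tr 0 J` = empty.
* `exists_iso_ker`: `X ≅ i.ker.subscheme` over `P^r` for a closed immersion `i : X ⟶ P^r`.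
* `exists_iso_sec`: `Sec i {H} ≅ (i.ker ⊔ hypIdeal H).subscheme` over `P^r`; `exists_iso_sup`: the case `i = J.subschemeι`.
* `Tr_ker_iff`, `Tr_sec_iff` (`Tr m (i.ker ⊔ hypIdeal H) ↔ Transversal k m 1 (secToSpec i {H})`), `Tr_sup_iff`.
* `isGeneric_Tr`, `bertini`: Bertini for one / finitely many ideal sheaves.
* `secs J Ls`: iterated sections by linear forms; `TC` transversal flags; `exists_flag`: transversal flags off a
  hypersurface of the space of `n`-tuples of linear forms.
-/

set_option autoImplicit false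
universe u

open CategoryTheory AlgebraicGeometry Limits TopologicalSpace Opposite

namespace Groth.Agent.Lefpen.H879.Lat

open LefPen Groth.Agent.Lefpen.H879.Ker Groth.Agent.Lefpen.H702.PolyFun

variable {k : Type u} [Field k] {r : ℕ}

/-- `Tr (m + 1) J`: the closed subscheme of `P^r` defined by `J` is smooth of relative dimension `m`; `Tr 0 J`: it is
empty. -/
def Tr : ℕ → (CohB1.ProjSpace r k).IdealSheafData → Prop
  | 0, J => IsEmpty J.subscheme
  | m + 1, J => SmoothOfRelativeDimension m (J.subschemeι ≫ CohB1.ProjSpace.toSpec r k)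

theorem Tr_zero (J : (CohB1.ProjSpace r k).IdealSheafData) : Tr 0 J ↔ IsEmpty J.subscheme := Iff.rfl

theorem Tr_succ (m : ℕ) (J : (CohB1.ProjSpace r k).IdealSheafData) :
    Tr (m + 1) J ↔ SmoothOfRelativeDimension m (J.subschemeι ≫ CohB1.ProjSpace.toSpec r k) := Iff.rfl

theorem smoothOfRelativeDimension_congr {Y Y' : Scheme.{u}} (m : ℕ) (g : Y ⟶ Spec (CommRingCat.of k))
    (g' : Y' ⟶ Spec (CommRingCat.of k)) (e : Y ≅ Y') (he : e.hom ≫ g' = g) :
    SmoothOfRelativeDimension m g ↔ SmoothOfRelativeDimension m g' := by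
  rw [← he]
  exact MorphismProperty.cancel_left_of_respectsIso (@SmoothOfRelativeDimension m) _ _

theorem transversal_congr {Y Y' : Scheme.{u}} (n c : ℕ) (g : Y ⟶ Spec (CommRingCat.of k))
    (g' : Y' ⟶ Spec (CommRingCat.of k)) (e : Y ≅ Y') (he : e.hom ≫ g' = g) :
    Transversal k n c g ↔ Transversal k n c g' := by
  unfold Transversal
  rw [smoothOfRelativeDimension_congr (n - c) g g' e he]
  have h : IsEmpty Y ↔ IsEmpty Y' := ⟨fun h => ⟨fun x => h.false (e.inv x)⟩, fun h => ⟨fun x => h.false (e.hom x)⟩⟩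
  rw [h]

/-- `Tr` and `Transversal`. -/
theorem Tr_iff_transversal (m : ℕ) (J : (CohB1.ProjSpace r k).IdealSheafData) :
    Tr m J ↔ Transversal k m 1 (J.subschemeι ≫ CohB1.ProjSpace.toSpec r k) := by
  cases m with
  | zero =>
    constructor
    · intro h; exact Or.inr ⟨Nat.one_pos, h⟩
    · rintro (⟨h, -⟩ | ⟨-, h⟩)
      · omega
      · exact h
  | succ m =>
    constructor
    · intro h; exact Or.inl ⟨by omega, h⟩
    · rintro (⟨-, h⟩ | ⟨h, -⟩)
      · exact h
      · omega

theorem Tr_iff_transversal' (n c : ℕ) (J : (CohB1.ProjSpace r k).IdealSheafData) :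
    Tr (n + 1 - c) J ↔ Transversal k n c (J.subschemeι ≫ CohB1.ProjSpace.toSpec r k) := by
  unfold Transversal
  by_cases h : c ≤ n
  · have h1 : n + 1 - c = n - c + 1 := by omega
    rw [h1, Tr_succ]
    simp only [h, true_and, not_lt.mpr h, false_and, or_false]
  · have h1 : n + 1 - c = 0 := by omega
    rw [h1, Tr_zero]
    simp only [h, false_and, not_le.mp h, true_and, false_or]

section embedded

variable {X : Scheme.{u}} (i : X ⟶ CohB1.ProjSpace r k) [IsClosedImmersion i]

theorem exists_iso_ker : ∃ e : X ≅ i.ker.subscheme, e.hom ≫ i.ker.subschemeι = i :=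
  exists_iso_of_ker_eq i i.ker.subschemeι (by rw [Scheme.IdealSheafData.ker_subschemeι])

theorem exists_iso_sec {a : ℕ} (H : Form r k a) :
    ∃ e : Sec i {H} ≅ (i.ker ⊔ hypIdeal H).subscheme, e.hom ≫ (i.ker ⊔ hypIdeal H).subschemeι = secι i {H} ≫ i :=
  exists_iso_of_ker_eq (secι i {H} ≫ i) (i.ker ⊔ hypIdeal H).subschemeι (by
    rw [ker_secι_singleton, Scheme.IdealSheafData.ker_subschemeι])

theorem exists_iso_sec_set {a : ℕ} (s : Set (Form r k a)) :
    ∃ e : Sec i s ≅ (i.ker ⊔ ⨆ H ∈ s, hypIdeal H).subscheme,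
      e.hom ≫ (i.ker ⊔ ⨆ H ∈ s, hypIdeal H).subschemeι = secι i s ≫ i :=
  exists_iso_of_ker_eq (secι i s ≫ i) (i.ker ⊔ ⨆ H ∈ s, hypIdeal H).subschemeι (by
    rw [ker_secι, Scheme.IdealSheafData.ker_subschemeι])

theorem Tr_ker_iff (m : ℕ) :
    Tr (m + 1) i.ker ↔ SmoothOfRelativeDimension m (i ≫ CohB1.ProjSpace.toSpec r k) := by
  obtain ⟨e, he⟩ := exists_iso_ker i
  rw [Tr_succ]
  exact (smoothOfRelativeDimension_congr m _ _ e (by rw [← Category.assoc, he])).symm

theorem Tr_sec_iff (m : ℕ) {a : ℕ} (H : Form r k a) :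
    Tr m (i.ker ⊔ hypIdeal H) ↔ Transversal k m 1 (secToSpec i {H}) := by
  obtain ⟨e, he⟩ := exists_iso_sec i H
  rw [Tr_iff_transversal]
  exact (transversal_congr m 1 _ _ e (by rw [← Category.assoc, he, Category.assoc])).symm

theorem Tr_sec_set_iff (n c : ℕ) {a : ℕ} (s : Set (Form r k a)) :
    Tr (n + 1 - c) (i.ker ⊔ ⨆ H ∈ s, hypIdeal H) ↔ Transversal k n c (secToSpec i s) := by
  obtain ⟨e, he⟩ := exists_iso_sec_set i s
  rw [Tr_iff_transversal']
  exact (transversal_congr n c _ _ e (by rw [← Category.assoc, he, Category.assoc])).symm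

end embedded

variable (J : (CohB1.ProjSpace r k).IdealSheafData)

theorem exists_iso_sup {a : ℕ} (H : Form r k a) :
    ∃ e : Sec J.subschemeι {H} ≅ (J ⊔ hypIdeal H).subscheme,
      e.hom ≫ (J ⊔ hypIdeal H).subschemeι = secι J.subschemeι {H} ≫ J.subschemeι := by
  have h := exists_iso_sec J.subschemeι H
  rwa [Scheme.IdealSheafData.ker_subschemeι] at h

theorem Tr_sup_iff (m : ℕ) {a : ℕ} (H : Form r k a) :
    Tr m (J ⊔ hypIdeal H) ↔ Transversal k m 1 (secToSpec J.subschemeι {H}) := by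
  have h := Tr_sec_iff J.subschemeι m H
  rwa [Scheme.IdealSheafData.ker_subschemeι] at h

variable {J}

theorem Tr_zero_sup {J' : (CohB1.ProjSpace r k).IdealSheafData} (h : Tr 0 J) : Tr 0 (J ⊔ J') := by
  have hE : IsEmpty J.subscheme := h
  exact ⟨fun x => hE.false (Scheme.IdealSheafData.inclusion (le_sup_left : J ≤ J ⊔ J') x)⟩

theorem isGeneric_Tr [IsAlgClosed k] (m : ℕ) (hJ : Tr m J) {a : ℕ} (ha : 1 ≤ a) :
    IsGeneric k {H : Form r k a | Tr (m - 1) (J ⊔ hypIdeal H)} := by
  cases m with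
  | zero => exact IsGeneric.mono isGeneric_univ fun H _ => Tr_zero_sup hJ
  | succ m =>
    have hJ' : SmoothOfRelativeDimension m (J.subschemeι ≫ CohB1.ProjSpace.toSpec r k) := hJ
    refine IsGeneric.mono (Groth.Agent.Lefpen.H708.Bertini.isGeneric_transversal J.subschemeι m ha) fun H hH => ?_
    exact (Tr_sup_iff J m H).2 hH

theorem isGeneric_Tr_list [IsAlgClosed k] {a : ℕ} (ha : 1 ≤ a)
    (l : List (ℕ × (CohB1.ProjSpace r k).IdealSheafData)) (hl : ∀ p ∈ l, Tr p.1 p.2) :
    IsGeneric k {H : Form r k a | ∀ p ∈ l, Tr (p.1 - 1) (p.2 ⊔ hypIdeal H)} := by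
  induction l with
  | nil => exact IsGeneric.mono isGeneric_univ fun H _ p hp => absurd hp (by simp)
  | cons q l ih =>
    refine IsGeneric.mono (IsGeneric.inter (isGeneric_Tr q.1 (hl q (by simp)) ha)
      (ih fun p hp => hl p (by simp [hp]))) ?_
    rintro H ⟨h1, h2⟩ p hp
    rw [List.mem_cons] at hp
    rcases hp with rfl | hp
    · exact h1
    · exact h2 p hp

/-- Bertini for finitely many closed subschemes. -/
theorem bertini [IsAlgClosed k] (a : ℕ) (ha : 1 ≤ a) (l : List (ℕ × (CohB1.ProjSpace r k).IdealSheafData))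
    (hl : ∀ p ∈ l, Tr p.1 p.2) : ∃ H : Form r k a, ∀ p ∈ l, Tr (p.1 - 1) (p.2 ⊔ hypIdeal H) :=
  IsGeneric.nonempty (isGeneric_Tr_list ha l hl)

/-- Iterated sections by linear forms. -/
noncomputable def secs (J : (CohB1.ProjSpace r k).IdealSheafData) :
    List (Form r k 1) → (CohB1.ProjSpace r k).IdealSheafData
  | [] => J
  | L :: Ls => secs (J ⊔ hypIdeal L) Ls

/-- Flags of linear forms transversal at every stage. -/
def TC (m : ℕ) (J : (CohB1.ProjSpace r k).IdealSheafData) : List (Form r k 1) → Prop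
  | [] => True
  | L :: Ls => Tr (m - 1) (J ⊔ hypIdeal L) ∧ TC (m - 1) (J ⊔ hypIdeal L) Ls

theorem secs_eq (J : (CohB1.ProjSpace r k).IdealSheafData) (Ls : List (Form r k 1)) :
    secs J Ls = J ⊔ ⨆ G ∈ Ls, hypIdeal G := by
  induction Ls generalizing J with
  | nil => simp [secs]
  | cons L Ls ih =>
    rw [secs, ih, sup_assoc]
    congr 1
    simp only [List.mem_cons, iSup_or, iSup_sup_eq, iSup_iSup_eq_left]

theorem secs_ofFn {n : ℕ} (J : (CohB1.ProjSpace r k).IdealSheafData) (L : Fin n → Form r k 1) :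
    secs J (List.ofFn L) = J ⊔ ⨆ G ∈ Set.range L, hypIdeal G := by
  rw [secs_eq]
  simp only [List.mem_ofFn, Set.mem_range]

section affine

variable {V : Type u} [AddCommGroup V] [Module k V] {W : Type u} [AddCommGroup W] [Module k W]

theorem isPolyFun_comp_affine (L : W →ₗ[k] V) (v : V) {f : V → k} (hf : IsPolyFun k f) :
    IsPolyFun k (fun w => f (L w + v)) := by
  refine IsPolyFun.induction (P := fun f ↦ IsPolyFun k (fun w ↦ f (L w + v))) ?_ ?_ ?_ ?_ hf
  · intro a; exact isPolyFun_const a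
  · intro l
    have h1 := IsPolyFun.add (isPolyFun_dual (k := k) (l ∘ₗ L)) (isPolyFun_const (V := W) (l v))
    have h2 : (fun w => l (L w + v)) = fun w => (l ∘ₗ L) w + l v := by
      funext w
      rw [map_add]
      rfl
    change IsPolyFun k (fun w => l (L w + v))
    rw [h2]
    exact h1
  · intro f g hf hg; exact IsPolyFun.add hf hg
  · intro f g hf hg; exact IsPolyFun.mul hf hg

theorem isPolyFun_cons_left {n : ℕ} {f : (Fin (n + 1) → V) → k} (hf : IsPolyFun k f) (w : Fin n → V) :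
    IsPolyFun k (fun v : V => f (Fin.cons v w)) := by
  have h := isPolyFun_comp_affine (LinearMap.single k (fun _ : Fin (n + 1) => V) 0) (Fin.cons 0 w) hf
  have h2 : (fun v : V => f (Fin.cons v w)) = fun v => f (LinearMap.single k (fun _ : Fin (n + 1) => V) 0 v +
      (Fin.cons 0 w : Fin (n + 1) → V)) := by
    funext v
    congr 1
    funext j
    refine Fin.cases ?_ (fun j => ?_) j
    · simp
    · simp
  rw [h2]
  exact h

theorem isPolyFun_cons_right {n : ℕ} {f : (Fin (n + 1) → V) → k} (hf : IsPolyFun k f) (v : V) :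
    IsPolyFun k (fun w : Fin n → V => f (Fin.cons v w)) := by
  let L : (Fin n → V) →ₗ[k] (Fin (n + 1) → V) :=
    LinearMap.pi (Fin.cons 0 (fun j => LinearMap.proj j))
  have h := isPolyFun_comp_affine L (Fin.cons v 0) hf
  have h2 : (fun w : Fin n → V => f (Fin.cons v w)) = fun w => f (L w + (Fin.cons v 0 : Fin (n + 1) → V)) := by
    funext w
    congr 1
    funext j
    refine Fin.cases ?_ (fun j => ?_) j
    · simp [L]
    · simp [L]
  rw [h2]
  exact h

end affine

/-- Transversal flags of hyperplanes avoiding a hypersurface of the space of tuples of linear forms. -/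
theorem exists_flag [IsAlgClosed k] (n m : ℕ) (J : (CohB1.ProjSpace r k).IdealSheafData) (hJ : Tr m J)
    (f : (Fin n → Form r k 1) → k) (hf : IsPolyFun k f) (hf0 : ∃ v, f v ≠ 0) :
    ∃ L : Fin n → Form r k 1, f L ≠ 0 ∧ TC m J (List.ofFn L) := by
  induction n generalizing m J with
  | zero =>
    obtain ⟨v, hv⟩ := hf0
    exact ⟨v, hv, by simp [TC]⟩
  | succ n ih =>
    obtain ⟨v, hv⟩ := hf0
    have h1 : IsGeneric k {L0 : Form r k 1 | f (Fin.cons L0 (Fin.tail v)) ≠ 0} :=
      ⟨_, isPolyFun_cons_left hf (Fin.tail v), ⟨v 0, by rwa [Fin.cons_self_tail]⟩, fun w hw => hw⟩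
    obtain ⟨L0, h2, h3⟩ := IsGeneric.nonempty (IsGeneric.inter h1 (isGeneric_Tr m hJ le_rfl))
    obtain ⟨L, h4, h5⟩ := ih (m - 1) (J ⊔ hypIdeal L0) h3 (fun w => f (Fin.cons L0 w))
      (isPolyFun_cons_right hf L0) ⟨Fin.tail v, h2⟩
    refine ⟨Fin.cons L0 L, h4, ?_⟩
    rw [List.ofFn_succ]
    exact ⟨h3, h5⟩

end Groth.Agent.Lefpen.H879.Lat
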