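import Groth.Agent.Lefpen.H705.SecIdeal
import Groth.Agent.Lefpen.H704.Scale
import Groth.Agent.Lefpen.H708.Geo
import Groth.Agent.Lefpen.H727.Compact

/-!
# Linear combinations of forms with variable coefficients on a scheme over projective space

`p : W ⟶ P^r_k`, functions `γ a ∈ Γ(W, ⊤)` and forms `G a` of degree `d` (`a` in a finite type):

* `lineqn p γ G j U hU = ∑ a, γ a * p^*(G a / T_j^d)` on an open `U ≤ p⁻¹ D_+(T_j)`.
* `linIdeal p γ G : W.IdealSheafData`, `linIdeal_ideal_of_le`: on affine opens `U ≤ p⁻¹ D_+(T_j)` it is generated by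
  `lineqn`.
* `comap_linIdeal`: functoriality in `W`.
* `linIdeal_smul`: multiplying all the `γ a` by a unit does not change the ideal.
* `linIdeal_const`: if `γ a` is the constant `c a ∈ k`, it is the inverse image of `hypIdeal (∑ c a • G a)`.
-/

set_option autoImplicit false
universe u

open CategoryTheory AlgebraicGeometry Limits TopologicalSpace Opposite

namespace Groth.Agent.Lefpen.H879.Lin

open LefPen Groth.Agent.Divis.IdealComap Groth.Agent.Fdesc.LocGen Groth.Agent.Lefpen.H705.HypIdeal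
open Groth.Agent.Lefpen.H705.SecIdeal

variable {r : ℕ} {k : Type u} [Field k] {d : ℕ} {W W' : Scheme.{u}}

theorem ores_eqn (p : W ⟶ CohB1.ProjSpace r k) (j : Fin (r + 1)) {U V : W.Opens} (h : V ≤ U)
    (hU : U ≤ p ⁻¹ᵁ chart r k j) (G : Form r k d) :
    ores h (eqn p j U hU G) = eqn p j V (h.trans hU) G := by
  unfold ores eqn
  rw [← CommRingCat.comp_apply, Scheme.Hom.appLE_map]

theorem appLE_eqn (f : W' ⟶ W) (p : W ⟶ CohB1.ProjSpace r k) (j : Fin (r + 1)) (U : W.Opens) (V : W'.Opens)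
    (hU : U ≤ p ⁻¹ᵁ chart r k j) (e : V ≤ f ⁻¹ᵁ U) (hV : V ≤ (f ≫ p) ⁻¹ᵁ chart r k j) (G : Form r k d) :
    (f.appLE U V e).hom (eqn p j U hU G) = eqn (f ≫ p) j V hV G := by
  unfold eqn
  have h := Scheme.Hom.appLE_comp_appLE f p (LefPen.chart r k j) U V hU e
  rw [← h]
  rfl

theorem eqn_change (p : W ⟶ CohB1.ProjSpace r k) (j j' : Fin (r + 1)) (V : W.Opens)
    (hj : V ≤ p ⁻¹ᵁ chart r k j) (hj' : V ≤ p ⁻¹ᵁ chart r k j') (d : ℕ) :
    ∃ v : Γ(W, V), IsUnit v ∧ ∀ G : Form r k d, eqn p j V hj G = v * eqn p j' V hj' G := by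
  let C : (CohB1.ProjSpace r k).Opens := chart r k j ⊓ chart r k j'
  have hV : V ≤ p ⁻¹ᵁ C := le_inf hj hj'
  have key : ∀ (l : Fin (r + 1)) (hl : C ≤ chart r k l) (hVl : V ≤ p ⁻¹ᵁ chart r k l) (G : Form r k d),
      eqn p l V hVl G = (p.appLE C V hV).hom (ores hl (dehom G l)) := by
    intro l hl hVl G
    have h2 := Scheme.Hom.map_appLE p hV (homOfLE hl).op
    unfold eqn ores
    rw [← CommRingCat.comp_apply, h2]
  refine ⟨(p.appLE C V hV).hom (ores inf_le_left (ratio j j') ^ d), ?_, fun G => ?_⟩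
  · exact ((isUnit_ores_ratio j j' C inf_le_left inf_le_right).pow d).map _
  · rw [key j inf_le_left hj G, key j' inf_le_right hj' G, ← map_mul,
      ores_dehom G j j' C inf_le_left inf_le_right]

variable {ι : Type*} [Fintype ι]

/-- The local equation `∑ a, γ a * p^*(G a / T_j^d)`. -/
noncomputable def lineqn (p : W ⟶ CohB1.ProjSpace r k) (γ : ι → Γ(W, ⊤)) (G : ι → Form r k d) (j : Fin (r + 1))
    (U : W.Opens) (hU : U ≤ p ⁻¹ᵁ chart r k j) : Γ(W, U) :=
  ∑ a, ores le_top (γ a) * eqn p j U hU (G a)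

theorem ores_lineqn (p : W ⟶ CohB1.ProjSpace r k) (γ : ι → Γ(W, ⊤)) (G : ι → Form r k d) (j : Fin (r + 1))
    {U V : W.Opens} (h : V ≤ U) (hU : U ≤ p ⁻¹ᵁ chart r k j) :
    ores h (lineqn p γ G j U hU) = lineqn p γ G j V (h.trans hU) := by
  unfold lineqn
  rw [map_sum]
  refine Finset.sum_congr rfl fun a _ => ?_
  rw [map_mul, ores_ores, ores_eqn]

theorem appLE_lineqn (f : W' ⟶ W) (p : W ⟶ CohB1.ProjSpace r k) (γ : ι → Γ(W, ⊤)) (G : ι → Form r k d)
    (j : Fin (r + 1)) (U : W.Opens) (V : W'.Opens) (hU : U ≤ p ⁻¹ᵁ chart r k j) (e : V ≤ f ⁻¹ᵁ U)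
    (hV : V ≤ (f ≫ p) ⁻¹ᵁ chart r k j) :
    (f.appLE U V e).hom (lineqn p γ G j U hU) = lineqn (f ≫ p) (fun a => f.appTop.hom (γ a)) G j V hV := by
  unfold lineqn
  rw [map_sum]
  refine Finset.sum_congr rfl fun a _ => ?_
  rw [map_mul, appLE_eqn f p j U V hU e hV]
  congr 1
  unfold ores
  rw [← CommRingCat.comp_apply, Scheme.Hom.map_appLE]
  rfl

theorem span_lineqn_change (p : W ⟶ CohB1.ProjSpace r k) (γ : ι → Γ(W, ⊤)) (G : ι → Form r k d)
    (j j' : Fin (r + 1)) (V : W.Opens) (hj : V ≤ p ⁻¹ᵁ chart r k j) (hj' : V ≤ p ⁻¹ᵁ chart r k j') :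
    Ideal.span {lineqn p γ G j V hj} = Ideal.span {lineqn p γ G j' V hj'} := by
  obtain ⟨v, hv, h⟩ := eqn_change p j j' V hj hj' d
  have h1 : lineqn p γ G j V hj = v * lineqn p γ G j' V hj' := by
    unfold lineqn
    rw [Finset.mul_sum]
    refine Finset.sum_congr rfl fun a _ => ?_
    rw [h]
    ring
  rw [h1]
  exact Ideal.span_singleton_mul_left_unit hv _

theorem exists_linIdeal (p : W ⟶ CohB1.ProjSpace r k) (γ : ι → Γ(W, ⊤)) (G : ι → Form r k d) :
    ∃ D : W.IdealSheafData, ∀ (j : Fin (r + 1)) (U : W.affineOpens) (hU : U.1 ≤ p ⁻¹ᵁ chart r k j),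
      D.ideal U = Ideal.span {lineqn p γ G j U.1 hU} := by
  obtain ⟨D, hD⟩ := Groth.Agent.Divis.CartierData.exists_ideal (X := W)
    (ι := {x : W.affineOpens × ULift.{u} (Fin (r + 1)) // x.1.1 ≤ p ⁻¹ᵁ chart r k x.2.down})
    (fun x => x.1.1)
    (by
      rw [eq_top_iff]
      intro x _
      have h1 : p x ∈ (⊤ : (CohB1.ProjSpace r k).Opens) := trivial
      rw [← iSup_chart (r := r) (k := k)] at h1
      obtain ⟨j, hj⟩ := Opens.mem_iSup.mp h1
      obtain ⟨U, hU, hxU, hle⟩ := exists_isAffineOpen_mem_and_subset (U := p ⁻¹ᵁ chart r k j) (x := x) hj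
      exact Opens.mem_iSup.mpr ⟨⟨(⟨U, hU⟩, ⟨j⟩), hle⟩, hxU⟩)
    (fun x => lineqn p γ G x.1.2.down x.1.1.1 x.2)
    (by
      intro x y V hx hy
      rw [ores_lineqn, ores_lineqn]
      exact span_lineqn_change p γ G _ _ _ _ _)
  refine ⟨D, fun j U hU => ?_⟩
  have h := hD ⟨(U, ⟨j⟩), hU⟩ U le_rfl
  rw [ores_refl] at h
  exact h

/-- The ideal sheaf locally generated by `∑ a, γ a * p^*(G a / T_j^d)`. -/
noncomputable def linIdeal (p : W ⟶ CohB1.ProjSpace r k) (γ : ι → Γ(W, ⊤)) (G : ι → Form r k d) :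
    W.IdealSheafData :=
  (exists_linIdeal p γ G).choose

theorem linIdeal_ideal_of_le (p : W ⟶ CohB1.ProjSpace r k) (γ : ι → Γ(W, ⊤)) (G : ι → Form r k d)
    (j : Fin (r + 1)) (U : W.affineOpens) (hU : U.1 ≤ p ⁻¹ᵁ chart r k j) :
    (linIdeal p γ G).ideal U = Ideal.span {lineqn p γ G j U.1 hU} :=
  (exists_linIdeal p γ G).choose_spec j U hU

/-- An ideal sheaf is determined by its values on the affine opens of the inverse images of the charts. -/
theorem ext_of_chart (p : W ⟶ CohB1.ProjSpace r k) {I J : W.IdealSheafData}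
    (h : ∀ (j : Fin (r + 1)) (U : W.affineOpens), U.1 ≤ p ⁻¹ᵁ chart r k j → I.ideal U = J.ideal U) : I = J := by
  refine ext_of_forall_mem fun x => ?_
  have h1 : p x ∈ (⊤ : (CohB1.ProjSpace r k).Opens) := trivial
  rw [← iSup_chart (r := r) (k := k)] at h1
  obtain ⟨j, hj⟩ := Opens.mem_iSup.mp h1
  obtain ⟨U, hU, hxU, hle⟩ := exists_isAffineOpen_mem_and_subset (U := p ⁻¹ᵁ chart r k j) (x := x) hj
  exact ⟨⟨U, hU⟩, hxU, h j ⟨U, hU⟩ hle⟩

theorem comap_linIdeal (f : W' ⟶ W) (p : W ⟶ CohB1.ProjSpace r k) (γ : ι → Γ(W, ⊤)) (G : ι → Form r k d) :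
    (linIdeal p γ G).comap f = linIdeal (f ≫ p) (fun a => f.appTop.hom (γ a)) G := by
  refine ext_of_forall_mem fun x => ?_
  have h1 : p (f x) ∈ (⊤ : (CohB1.ProjSpace r k).Opens) := trivial
  rw [← iSup_chart (r := r) (k := k)] at h1
  obtain ⟨j, hj⟩ := Opens.mem_iSup.mp h1
  obtain ⟨U, V, -, hxV, -, hUj, e⟩ := exists_affine_le f x ⊤ trivial (p ⁻¹ᵁ chart r k j) hj
  have hVj : V.1 ≤ (f ≫ p) ⁻¹ᵁ chart r k j := fun y hy => hUj (e hy)
  refine ⟨V, hxV, ?_⟩
  rw [ideal_comap _ f U V e, linIdeal_ideal_of_le p γ G j U hUj, linIdeal_ideal_of_le _ _ G j V hVj,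
    Ideal.map_span, Set.image_singleton, appLE_lineqn f p γ G j U.1 V.1 hUj e hVj]

theorem linIdeal_smul (p : W ⟶ CohB1.ProjSpace r k) (γ : ι → Γ(W, ⊤)) (G : ι → Form r k d) (v : Γ(W, ⊤))
    (hv : IsUnit v) : linIdeal p (fun a => v * γ a) G = linIdeal p γ G := by
  refine ext_of_chart p fun j U hU => ?_
  rw [linIdeal_ideal_of_le _ _ _ j U hU, linIdeal_ideal_of_le _ _ _ j U hU]
  have h1 : lineqn p (fun a => v * γ a) G j U.1 hU = ores le_top v * lineqn p γ G j U.1 hU := by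
    unfold lineqn
    rw [Finset.mul_sum]
    refine Finset.sum_congr rfl fun a _ => ?_
    rw [map_mul, mul_assoc]
  rw [h1]
  exact Ideal.span_singleton_mul_left_unit (hv.map _) _

/-! ### Constant coefficients -/

open Groth.Agent.Lefpen.H727.Compact Groth.Agent.Lefpen.H708.Geo

theorem eqn_add (p : W ⟶ CohB1.ProjSpace r k) (j : Fin (r + 1)) (U : W.Opens) (hU : U ≤ p ⁻¹ᵁ chart r k j)
    (F G : Form r k d) : eqn p j U hU (F + G) = eqn p j U hU F + eqn p j U hU G := by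
  unfold eqn
  rw [Groth.Agent.Lefpen.H704.Scale.dehom_add, map_add]

theorem eqn_zero (p : W ⟶ CohB1.ProjSpace r k) (j : Fin (r + 1)) (U : W.Opens) (hU : U ≤ p ⁻¹ᵁ chart r k j) :
    eqn p j U hU (0 : Form r k d) = 0 := by
  have h := eqn_add p j U hU (0 : Form r k d) 0
  rw [add_zero] at h
  exact left_eq_add.mp h

theorem eqn_smul (p : W ⟶ CohB1.ProjSpace r k) (j : Fin (r + 1)) (U : W.Opens) (hU : U ≤ p ⁻¹ᵁ chart r k j)
    (c : k) (G : Form r k d) :
    eqn p j U hU (c • G) = cst (p ≫ CohB1.ProjSpace.toSpec r k) U c * eqn p j U hU G := by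
  rw [eqn_eq, eqn_eq]
  have h1 : Groth.Agent.Sga5.ProjChart.dehom r k j (c • G).1 =
      MvPolynomial.C c * Groth.Agent.Sga5.ProjChart.dehom r k j G.1 := by
    change Groth.Agent.Sga5.ProjChart.dehom r k j (c • G.1) = _
    rw [MvPolynomial.smul_eq_C_mul, map_mul, Groth.Agent.Sga5.ProjChart.dehom_C]
  rw [h1, map_mul]
  congr 1
  have h2 := RingHom.congr_fun (coordU_C p j U hU) c
  exact h2

theorem eqn_sum (p : W ⟶ CohB1.ProjSpace r k) (j : Fin (r + 1)) (U : W.Opens) (hU : U ≤ p ⁻¹ᵁ chart r k j)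
    (c : ι → k) (G : ι → Form r k d) :
    eqn p j U hU (∑ a, c a • G a) =
      ∑ a, cst (p ≫ CohB1.ProjSpace.toSpec r k) U (c a) * eqn p j U hU (G a) := by
  classical
  have h : ∀ t : Finset ι, eqn p j U hU (∑ a ∈ t, c a • G a) =
      ∑ a ∈ t, cst (p ≫ CohB1.ProjSpace.toSpec r k) U (c a) * eqn p j U hU (G a) := by
    intro t
    induction t using Finset.induction_on with
    | empty => simpa using eqn_zero p j U hU
    | insert a t ha ih => rw [Finset.sum_insert ha, Finset.sum_insert ha, eqn_add, ih, eqn_smul]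
  exact h Finset.univ

theorem lineqn_const (p : W ⟶ CohB1.ProjSpace r k) (c : ι → k) (G : ι → Form r k d) (j : Fin (r + 1))
    (U : W.Opens) (hU : U ≤ p ⁻¹ᵁ chart r k j) :
    lineqn p (fun a => cst (p ≫ CohB1.ProjSpace.toSpec r k) ⊤ (c a)) G j U hU =
      eqn p j U hU (∑ a, c a • G a) := by
  rw [eqn_sum]
  unfold lineqn
  refine Finset.sum_congr rfl fun a _ => ?_
  congr 1
  exact cst_res _ _ _

theorem comap_hypIdeal_ideal_of_le (p : W ⟶ CohB1.ProjSpace r k) (H : Form r k d) (j : Fin (r + 1))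
    (U : W.affineOpens) (hU : U.1 ≤ p ⁻¹ᵁ chart r k j) :
    ((hypIdeal H).comap p).ideal U = Ideal.span {eqn p j U.1 hU H} := by
  rw [ideal_comap _ p ⟨chart r k j, isAffineOpen_chart j⟩ U hU, hypIdeal_ideal_of_le H j _ le_rfl,
    Ideal.map_span, Set.image_singleton, ores_refl]
  rfl

/-- For constant coefficients `linIdeal` is the inverse image of the ideal of the hypersurface `∑ a, c a • G a`. -/
theorem linIdeal_const (p : W ⟶ CohB1.ProjSpace r k) (c : ι → k) (G : ι → Form r k d) :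
    linIdeal p (fun a => cst (p ≫ CohB1.ProjSpace.toSpec r k) ⊤ (c a)) G =
      (hypIdeal (∑ a, c a • G a)).comap p := by
  refine ext_of_chart p fun j U hU => ?_
  rw [linIdeal_ideal_of_le _ _ _ j U hU, comap_hypIdeal_ideal_of_le p _ j U hU, lineqn_const]

theorem comap_hypIdeal_eq_secIdeal (p : W ⟶ CohB1.ProjSpace r k) (H : Form r k d) :
    (hypIdeal H).comap p = secIdeal p {H} := by
  unfold secIdeal
  simp only [Set.mem_singleton_iff, iSup_iSup_eq_left]

theorem linIdeal_const' (p : W ⟶ CohB1.ProjSpace r k) (c : ι → k) (G : ι → Form r k d) :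
    linIdeal p (fun a => cst (p ≫ CohB1.ProjSpace.toSpec r k) ⊤ (c a)) G = secIdeal p {∑ a, c a • G a} := by
  rw [linIdeal_const, comap_hypIdeal_eq_secIdeal]

end Groth.Agent.Lefpen.H879.Lin
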