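import Groth.Agent.Lefpen.H879.Lat
import Groth.Agent.Lefpen.H716.CIGeom
import Groth.Agent.Lefpen.H705.ClosedPoint
import Mathlib.AlgebraicGeometry.Morphisms.Finite
import Groth.Agent.UnramA.SmoothFibreDim
import Groth.Agent.Ega3B.ProjProper
import Mathlib.AlgebraicGeometry.Artinian

/-!
# Hypersurface sections of positive dimensional projective schemes are nonempty

* `isEmpty_of_isEmpty_sec`: `J` smooth of pure dimension `m + 1` in `P^r`, `H` a form of positive degree; if the section by
  `H` is empty then so is `J`.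
* `nonempty_secs`: flags.
-/

set_option autoImplicit false
universe u

open CategoryTheory AlgebraicGeometry Limits TopologicalSpace Opposite

namespace Groth.Agent.Lefpen.H879.Pos

open LefPen Groth.Agent.Lefpen.H879.Lat Groth.Agent.Lefpen.H716.CIGeom

variable {k : Type u} [Field k] {r : ℕ}

/-- The points of the section. -/
theorem range_secι {X : Scheme.{u}} (i : X ⟶ CohB1.ProjSpace r k) {a : ℕ} (H : Form r k a) :
    Set.range (secι i {H}) = {x | i x ∉ Dplus H} := by
  have h : Set.range (secι i {H}) = (secIdeal i {H}).support := Scheme.IdealSheafData.range_subschemeι _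
  rw [h, Groth.Agent.Lefpen.H879.Ker.secIdeal_singleton, Scheme.IdealSheafData.support_comap]
  ext x
  exact mem_support_hypIdeal_iff H (i x)

theorem discreteTopology_of_isFinite {Z : Scheme.{u}} (g : Z ⟶ Spec (CommRingCat.of k)) [IsFinite g] :
    DiscreteTopology Z := by
  have hA : IsAffine Z := isAffine_of_isAffineHom g
  let φ : k →+* Γ(Z, ⊤) := ((Scheme.ΓSpecIso (CommRingCat.of k)).inv ≫ g.appTop).hom
  have h1 : g.appTop.hom.Finite := g.finite_appTop
  have hφ : φ.Finite := by
    have h2 : (Scheme.ΓSpecIso (CommRingCat.of k)).inv.hom.Finite :=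
      RingHom.Finite.of_surjective _ (ConcreteCategory.bijective_of_isIso
        (Scheme.ΓSpecIso (CommRingCat.of k)).inv).2
    exact h1.comp h2
  algebraize [φ]
  have : IsArtinianRing Γ(Z, ⊤) := IsArtinianRing.of_finite k Γ(Z, ⊤)
  have : DiscreteTopology (Spec Γ(Z, ⊤)) := inferInstanceAs (DiscreteTopology (PrimeSpectrum Γ(Z, ⊤)))
  exact Z.isoSpec.hom.homeomorph.symm.discreteTopology

/-- A scheme smooth of relative dimension `m` and finite over a field with a point has `m = 0`. -/
theorem eq_zero_of_isFinite {Z : Scheme.{u}} (g : Z ⟶ Spec (CommRingCat.of k)) [IsFinite g] (m : ℕ)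
    [SmoothOfRelativeDimension m g] [Nonempty Z] : m = 0 := by
  have := discreteTopology_of_isFinite g
  obtain ⟨z⟩ := ‹Nonempty Z›
  have h1 := Groth.Agent.UnramA.SmoothFibreDim.localDim_eq m g z
  have h2 : FlatMor.localDim Z z ≤ 0 :=
    (Groth.Agent.VarietyB.DimTop.localDim_le_dim z).trans (topologicalKrullDim_zero_of_discreteTopology Z)
  rw [h1] at h2
  have h3 : m ≤ 0 := by exact_mod_cast h2
  omega

theorem isEmpty_of_isEmpty_sec (m : ℕ) (J : (CohB1.ProjSpace r k).IdealSheafData) (hJ : Tr (m + 2) J) {a : ℕ}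
    (ha : 1 ≤ a) (H : Form r k a) (hH : Tr 0 (J ⊔ hypIdeal H)) : IsEmpty J.subscheme := by
  by_contra hne
  rw [not_isEmpty_iff] at hne
  have hsm : SmoothOfRelativeDimension (m + 1) (J.subschemeι ≫ CohB1.ProjSpace.toSpec r k) := hJ
  have h1 : J.subschemeι ⁻¹ᵁ (Dplus H) = ⊤ := by
    rw [eq_top_iff]
    intro x _
    by_contra hx
    have h2 : x ∈ Set.range (secι J.subschemeι {H}) := by
      rw [range_secι]
      exact hx
    obtain ⟨y, -⟩ := h2
    obtain ⟨e, -⟩ := exists_iso_sup J H
    exact hH.false (e.hom y)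
  have h2 : IsAffineOpen (J.subschemeι ⁻¹ᵁ (Dplus H)) := (isAffineOpen_Dplus H ha).preimage J.subschemeι
  rw [h1] at h2
  have hA : IsAffine J.subscheme := by
    have : IsAffine (⊤ : J.subscheme.Opens).toScheme := h2
    exact IsAffine.of_isIso J.subscheme.topIso.inv
  have hP : IsProper (CohB1.ProjSpace.toSpec r k) := Groth.Agent.Ega3B.ProjProper.isProper_toSpec _ _
  have hp : IsProper (J.subschemeι ≫ CohB1.ProjSpace.toSpec r k) := inferInstance
  have hf : IsFinite (J.subschemeι ≫ CohB1.ProjSpace.toSpec r k) :=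
    IsFinite.iff_isProper_and_isAffineHom.2 ⟨hp, inferInstance⟩
  have := eq_zero_of_isFinite (J.subschemeι ≫ CohB1.ProjSpace.toSpec r k) (m + 1)
  omega

theorem nonempty_sec (m : ℕ) (J : (CohB1.ProjSpace r k).IdealSheafData) (hJ : Tr (m + 2) J)
    (hne : Nonempty J.subscheme) {a : ℕ} (ha : 1 ≤ a) (H : Form r k a) : Nonempty (J ⊔ hypIdeal H).subscheme := by
  by_contra h
  rw [not_nonempty_iff] at h
  exact (not_isEmpty_iff.2 hne) (isEmpty_of_isEmpty_sec m J hJ ha H h)

/-- The members of a transversal flag of length `≤ m` in a nonempty scheme of pure dimension `m` are nonempty. -/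
theorem nonempty_secs (m : ℕ) (J : (CohB1.ProjSpace r k).IdealSheafData) (hJ : Tr (m + 1) J)
    (hne : Nonempty J.subscheme) (Ls : List (Form r k 1)) (hl : Ls.length ≤ m) (h : TC (m + 1) J Ls) :
    Nonempty (secs J Ls).subscheme := by
  induction Ls generalizing m J with
  | nil => exact hne
  | cons L Ls ih =>
    rw [List.length_cons] at hl
    obtain ⟨m, rfl⟩ : ∃ m', m = m' + 1 := ⟨m - 1, by omega⟩
    exact ih m (J ⊔ hypIdeal L) h.1 (nonempty_sec m J hJ hne le_rfl L) (by omega) h.2

end Groth.Agent.Lefpen.H879.Pos
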