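import Groth.Agent.Lefpen.H879.System
import Groth.Agent.Lefpen.H879.Pos

/-!
# The Euler characteristic of hypersurface sections is a polynomial in the degree

`exists_polynomial`: from the double point formula `DP` and the constancy `Const`: for `X` irreducible smooth of
dimension `n ≥ 1` in `P^r` of degree `δ` (in the sense of S4033) and any `c₀ : ℤ` there is `f ∈ ℤ[T]` of degree `n` with
leading coefficient `δ` and `f(d) = (-1)^(n-1) e(X ∩ V(H)) + c₀` for all transversal `H` of degree `d ≥ 1`.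
-/

set_option autoImplicit false
universe u

open CategoryTheory AlgebraicGeometry Limits TopologicalSpace Opposite

namespace Groth.Agent.Lefpen.H879.EndNum

open LefPen Groth.Agent.Lefpen.H879.Lat Groth.Agent.Lefpen.H879.System
open Groth.Agent.Lefpen.H714.EulerEt Groth.Agent

variable {k : Type u} [Field k] [IsAlgClosed k] {r : ℕ} (ℓ : ℕ) [Fact ℓ.Prime] (hDP : DP k r ℓ) (hC : Const k r ℓ)

theorem sys_D (m : ℕ) (J : (CohB1.ProjSpace r k).IdealSheafData) : (sys ℓ hDP hC).D m J ↔ Tr m J := Iff.rfl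

theorem sys_secs (J : (CohB1.ProjSpace r k).IdealSheafData) (Ls : List (Form r k 1)) :
    (sys ℓ hDP hC).secs J Ls = secs J Ls := by
  induction Ls generalizing J with
  | nil => rfl
  | cons L Ls ih => exact ih (J ⊔ hypIdeal L)

theorem sys_TC (m : ℕ) (J : (CohB1.ProjSpace r k).IdealSheafData) (Ls : List (Form r k 1)) (h : TC m J Ls) :
    (sys ℓ hDP hC).TC m J Ls := by
  induction Ls generalizing m J with
  | nil => trivial
  | cons L Ls ih => exact ⟨h.1, ih (m - 1) (J ⊔ hypIdeal L) h.2⟩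

omit [IsAlgClosed k] in
theorem Tr_secs (m : ℕ) (J : (CohB1.ProjSpace r k).IdealSheafData) (hJ : Tr m J) (Ls : List (Form r k 1))
    (h : TC m J Ls) : Tr (m - Ls.length) (secs J Ls) := by
  induction Ls generalizing m J with
  | nil => simpa [secs] using hJ
  | cons L Ls ih =>
    have h1 := ih (m - 1) (J ⊔ hypIdeal L) h.1 h.2
    have h2 : m - (L :: Ls).length = m - 1 - Ls.length := by rw [List.length_cons]; omega
    rw [h2]
    exact h1

/-- The integer Euler characteristic of a finite set of reduced points. -/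
theorem ez_points (J : (CohB1.ProjSpace r k).IdealSheafData) (hJ : Tr 1 J) :
    ez ℓ J.subscheme = Nat.card J.subscheme := by
  have hE : SmoothOfRelativeDimension 0 (J.subschemeι ≫ CohB1.ProjSpace.toSpec r k) := hJ
  have := isProper_str J
  refine intPart_eq (Fact.out : ℓ.Prime).one_lt _ ?_
  rw [Points.ec_points (J.subschemeι ≫ CohB1.ProjSpace.toSpec r k) ℓ (Fact.out : ℓ.Prime).pos]
  simp

variable {X : Scheme.{u}} (i : X ⟶ CohB1.ProjSpace r k) [IsClosedImmersion i] [IrreducibleSpace X]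
  (n : ℕ) (hn : 1 ≤ n) [SmoothOfRelativeDimension n (i ≫ CohB1.ProjSpace.toSpec r k)] (δ : ℕ)
  (hδ : IsGeneric k {L : Fin n → Form r k 1 |
      Transversal k n n (secToSpec i (Set.range L)) ∧ Nat.card (Sec i (Set.range L)) = δ})

include hδ in
/-- The degree through a transversal flag. -/
theorem exists_flag_card : ∃ L : Fin n → Form r k 1, TC (n + 1) i.ker (List.ofFn L) ∧
    Tr 1 (secs i.ker (List.ofFn L)) ∧ Nat.card (secs i.ker (List.ofFn L)).subscheme = δ ∧ 1 ≤ δ := by
  have hJ : Tr (n + 1) i.ker := (Tr_ker_iff i n).2 inferInstance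
  obtain ⟨f, hf, hf0, hfS⟩ := hδ
  obtain ⟨L, hL, hTC⟩ := exists_flag n (n + 1) i.ker hJ f hf hf0
  obtain ⟨-, hcard⟩ := hfS L hL
  have h1 : Tr 1 (secs i.ker (List.ofFn L)) := by
    have h2 := Tr_secs (n + 1) i.ker hJ (List.ofFn L) hTC
    rw [List.length_ofFn, Nat.add_sub_cancel_left] at h2
    exact h2
  have h3 : Nat.card (secs i.ker (List.ofFn L)).subscheme = δ := by
    rw [← hcard, secs_ofFn]
    obtain ⟨e, -⟩ := exists_iso_sec_set i (Set.range L)
    exact (Nat.card_congr e.hom.homeomorph.toEquiv).symm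
  refine ⟨L, hTC, h1, h3, ?_⟩
  have hne : Nonempty i.ker.subscheme := by
    obtain ⟨e, -⟩ := exists_iso_ker i
    obtain ⟨x⟩ : Nonempty X := inferInstance
    exact ⟨e.hom x⟩
  have h4 : Nonempty (secs i.ker (List.ofFn L)).subscheme :=
    Pos.nonempty_secs n i.ker hJ hne (List.ofFn L) (by rw [List.length_ofFn]) hTC
  have hE : SmoothOfRelativeDimension 0
      ((secs i.ker (List.ofFn L)).subschemeι ≫ CohB1.ProjSpace.toSpec r k) := h1
  have := isProper_str (secs i.ker (List.ofFn L))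
  have h5 : Finite (secs i.ker (List.ofFn L)).subscheme :=
    Points.finite_of_smooth_zero ((secs i.ker (List.ofFn L)).subschemeι ≫ CohB1.ProjSpace.toSpec r k)
  rw [← h3]
  exact Nat.card_pos

include hDP hC hn hδ in
theorem exists_polynomial (c₀ : ℤ) : ∃ f : Polynomial ℤ, f.natDegree = n ∧ f.leadingCoeff = (δ : ℤ) ∧
    ∀ (d : ℕ), 1 ≤ d → ∀ H : Form r k d, Tr n (i.ker ⊔ hypIdeal H) →
      (-1) ^ (n - 1) * ez ℓ (i.ker ⊔ hypIdeal H).subscheme + c₀ = f.eval (d : ℤ) := by
  have hJ : Tr (n + 1) i.ker := (Tr_ker_iff i n).2 inferInstance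
  obtain ⟨L, hTC, h1, hcard, hpos⟩ := exists_flag_card i n δ hδ
  let S := sys ℓ hDP hC
  have hc : S.c n (m := n + 1) (Z := i.ker) hJ = δ := by
    rw [S.c_eq n (m := n + 1) (Z := i.ker) hJ (List.ofFn L) (by rw [List.length_ofFn]) (sys_TC ℓ hDP hC _ _ _ hTC),
      sys_secs]
    change ez ℓ (secs i.ker (List.ofFn L)).subscheme = δ
    rw [ez_points ℓ _ h1, hcard]
  obtain ⟨f, hf1, hf2, hf3⟩ := Lefpen.H590.Num.exists_polynomial n hn
    (fun j => S.c j (m := n + 1) (Z := i.ker) hJ) (by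
      rw [hc]
      have : (δ : ℤ) ≠ 0 := by exact_mod_cast (by omega : δ ≠ 0)
      exact this) c₀
  refine ⟨f, hf1, by rw [hf2, hc], fun d hd H hH => ?_⟩
  rw [hf3 d]
  have h2 := S.e_sec_eq n d hd i.ker hJ H hH
  change ez ℓ (i.ker ⊔ hypIdeal H).subscheme = _ at h2
  rw [h2]

end Groth.Agent.Lefpen.H879.EndNum
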