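import Groth.Prelude.Def_LefPen
import Groth.Agent.Divis.IdealComap

/-!
# Kernels of closed immersions and sections

* `exists_iso_of_ker_eq`: closed immersions with the same kernel are isomorphic over the target.
* `map_comap_eq`: `(J.comap i).map i = i.ker ⊔ J` for a closed immersion `i`.
* `ker_secι`: the kernel of `Sec i s ⟶ X ⟶ P^r`.
* `exists_iso_sec_sec`, `exists_iso_sec_comm`: iterated sections.
-/

set_option autoImplicit false
universe u

open CategoryTheory AlgebraicGeometry Limits TopologicalSpace Opposite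

namespace Groth.Agent.Lefpen.H879.Ker

open LefPen Groth.Agent.Divis.IdealComap

theorem exists_iso_of_ker_eq {X Y Z : Scheme.{u}} (f : X ⟶ Z) (g : Y ⟶ Z) [IsClosedImmersion f]
    [IsClosedImmersion g] (h : f.ker = g.ker) : ∃ e : X ≅ Y, e.hom ≫ g = f := by
  let a : X ⟶ Y := IsClosedImmersion.lift g f h.ge
  have ha : a ≫ g = f := IsClosedImmersion.lift_fac _ _ _
  have : IsIso a := IsClosedImmersion.isIso_of_ker_eq f g a ha h
  exact ⟨asIso a, ha⟩

theorem map_comap_eq {X P : Scheme.{u}} (i : X ⟶ P) [IsClosedImmersion i] (J : P.IdealSheafData) :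
    (J.comap i).map i = i.ker ⊔ J := by
  refine ext_of_forall_mem fun x => ?_
  obtain ⟨U, hU, hxU, -⟩ := exists_isAffineOpen_mem_and_subset (U := (⊤ : P.Opens)) (x := x) trivial
  refine ⟨⟨U, hU⟩, hxU, ?_⟩
  have hsurj : Function.Surjective (i.app U).hom := Scheme.Hom.app_surjective i _ hU
  rw [Scheme.IdealSheafData.ideal_map_of_isAffineHom, Scheme.IdealSheafData.ideal_sup, Pi.sup_apply,
    ideal_comap J i ⟨U, hU⟩ ⟨i ⁻¹ᵁ U, hU.preimage i⟩ le_rfl, Scheme.Hom.ker_apply,
    Scheme.Hom.appLE_eq_app, Ideal.comap_map_of_surjective _ hsurj, sup_comm]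
  rfl

variable {r : ℕ} {k : Type u} [Field k] {X : Scheme.{u}} (i : X ⟶ CohB1.ProjSpace r k)

theorem secIdeal_singleton {d : ℕ} (H : Form r k d) : secIdeal i {H} = (hypIdeal H).comap i := by
  unfold secIdeal
  simp only [Set.mem_singleton_iff, iSup_iSup_eq_left]

theorem ker_secι [IsClosedImmersion i] {d : ℕ} (s : Set (Form r k d)) :
    (secι i s ≫ i).ker = i.ker ⊔ ⨆ G ∈ s, hypIdeal G := by
  rw [← map_comap_eq, Scheme.Hom.ker_comp, Scheme.IdealSheafData.ker_subschemeι]
  rfl

theorem ker_secι_singleton [IsClosedImmersion i] {d : ℕ} (H : Form r k d) :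
    (secι i {H} ≫ i).ker = i.ker ⊔ hypIdeal H := by
  rw [ker_secι]
  simp only [Set.mem_singleton_iff, iSup_iSup_eq_left]

/-- Symmetry of iterated sections. -/
theorem exists_iso_sec_comm [IsClosedImmersion i] {a b : ℕ} (F : Form r k a) (G : Form r k b) :
    ∃ e : Sec (secι i {F} ≫ i) {G} ≅ Sec (secι i {G} ≫ i) {F},
      e.hom ≫ secι (secι i {G} ≫ i) {F} ≫ secι i {G} = secι (secι i {F} ≫ i) {G} ≫ secι i {F} := by
  obtain ⟨e, he⟩ := exists_iso_of_ker_eq (secι (secι i {F} ≫ i) {G} ≫ secι i {F} ≫ i)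
    (secι (secι i {G} ≫ i) {F} ≫ secι i {G} ≫ i) (by
      rw [ker_secι_singleton, ker_secι_singleton, ker_secι_singleton, ker_secι_singleton, sup_assoc, sup_assoc,
        sup_comm (hypIdeal F)])
  refine ⟨e, ?_⟩
  rw [← cancel_mono i]
  simpa using he

end Groth.Agent.Lefpen.H879.Ker
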